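import Cfsg.Agent.Lib.Helper3.HN.Index
import Cfsg.Agent.Lib.Helper21.HNTrans
import Cfsg.Agent.Lib.Helper21.HNDce.Cover

set_option autoImplicit false
set_option maxRecDepth 100000

/-!
# `N = ⟨x, y, z⟩` is a maximal subgroup of the presented group `Spor.HN`

`HN` is the union of the nine double cosets `N r_i N` (helper3, `Index.all_double`) and `N` is the stabiliser of the
point `0` of helper16's permutation representation.  For each `i ≥ 1` a short word `W_i` in `x, y, z, r_i^{±1}` is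
given which takes the point `0` to the point `t • 0`; hence `t⁻¹ W_i ∈ N` and `t ∈ ⟨N, r_i⟩`.
-/

namespace Cfsg.Agent.Lib.Helper21.HNGlue.Coatom

open Cfsg
open Cfsg.Agent.Lib.Helper28.TC2Upper Cfsg.Agent.Lib.Helper28.TC2Lower Cfsg.Agent.Lib.Helper28.TC2Glue
open Cfsg.Agent.Lib.Helper3.HN Cfsg.Agent.Lib.Helper3.HN.HNRel Cfsg.Agent.Lib.Helper3.HN.Tabs
open Cfsg.Agent.Lib.Helper3.HN.NKit Cfsg.Agent.Lib.Helper3.HN.FinalData Cfsg.Agent.Lib.Helper3.HN.Index
open Cfsg.Agent.Lib.Helper16.HNP.Table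

/-! ### words made of segments -/

/-- the word of a segment: tag `0` = a word in `x, y, z`, tag `1` = the root `ρ`, other tags = the inverse of `ρ` -/
def segW (ρ : Wd) (s : ℕ × Wd) : Wd := cond (Nat.beq s.1 0) s.2 (cond (Nat.beq s.1 1) ρ (winv ρ))

/-- the word of a list of segments -/
def flat (ρ : Wd) : List (ℕ × Wd) → Wd
  | [] => []
  | s :: L => segW ρ s ++ flat ρ L

/-- the segments with tag `0` are words in `x, y, z` -/
def segOK (s : ℕ × Wd) : Bool := cond (Nat.beq s.1 0) (allN s.2) true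

theorem ev_seg_mem (ρ : Wd) (s : ℕ × Wd) (h : segOK s = true) :
    ev lt (segW ρ s) ∈ Subgroup.closure ((Index.N : Set Spor.HN) ∪ {ev lt ρ}) := by
  unfold segW
  unfold segOK at h
  cases h0 : Nat.beq s.1 0
  · cases h1 : Nat.beq s.1 1
    · simp only [cond_false]
      rw [ev_winv]
      exact Subgroup.inv_mem _ (Subgroup.subset_closure (Or.inr rfl))
    · simp only [cond_false, cond_true]
      exact Subgroup.subset_closure (Or.inr rfl)
  · rw [h0] at h
    simp only [cond_true] at h ⊢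
    exact Subgroup.subset_closure (Or.inl (ev_mem_of_allN lt Index.N lt_mem_N _ h))

theorem ev_flat_mem (ρ : Wd) (L : List (ℕ × Wd)) (h : L.all segOK = true) :
    ev lt (flat ρ L) ∈ Subgroup.closure ((Index.N : Set Spor.HN) ∪ {ev lt ρ}) := by
  induction L with
  | nil => exact Subgroup.one_mem _
  | cons s L ih =>
    simp only [List.all_cons, Bool.and_eq_true] at h
    show ev lt (segW ρ s ++ flat ρ L) ∈ _
    rw [ev_append]
    exact Subgroup.mul_mem _ (ev_seg_mem ρ s h.1) (ih h.2)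

/-! ### the eight words -/

/-- the segments of the word `W_i` -/
def cwSeg : ℕ → List (ℕ × Wd)
  | 1 => [(1, [])]
  | 2 => [(0, [0]), (1, []), (0, [0]), (1, [])]
  | 3 => [(2, []), (2, []), (0, [0]), (1, []), (0, [3]), (1, []), (0, [0]), (2, [])]
  | 4 => [(0, [0]), (1, []), (0, [0]), (1, []), (0, [0]), (1, [])]
  | 5 => [(1, []), (1, []), (0, [3, 0, 3, 3, 0]), (1, [])]
  | 6 => [(0, [1]), (1, []), (0, [0]), (2, []), (0, [1]), (1, [])]
  | 7 => [(0, [4, 2]), (2, []), (0, [2, 1]), (1, []), (0, [2, 1]), (1, [])]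
  | 8 => [(1, []), (0, [3, 0, 3]), (2, []), (0, [3, 3]), (2, []), (2, []), (0, [3]), (1, [])]
  | _ => []

/-- the word `t⁻¹ W_i` -/
def cw (i : ℕ) : Wd := 6 :: flat (rootW i) (cwSeg i)

/-- the check for the root `i`: the segments are well formed, the letters are letters, and `t⁻¹ W_i` fixes `0` -/
noncomputable def cwOK (i : ℕ) : Bool :=
  and ((cwSeg i).all segOK) (and ((cw i).all fun c => Nat.blt c 7) (Nat.beq (table.walkT (cw i).reverse 0) 0))

theorem cwOK_all : allLoop (fun i => cwOK (Nat.succ i)) 8 = true := by decide +kernel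

/-! ### the stabiliser of the point `0` -/

theorem hn_pos : 0 < table.n := by show 0 < 1539000; omega

section Rep

variable (φ : Spor.HN →* Equiv.Perm (Fin table.n))
  (hφ : ∀ (L : List (Spor.HN.Gen × Bool)) (p : Fin table.n),
    (φ (PresentedGroup.mk Cfsg.Agent.Lib.Helper16.HNP.Main.rels (FreeGroup.mk L)) p).val =
      table.walkT (pathOf Cfsg.Agent.Lib.Helper16.HNP.Main.lw L) p.val)

include hφ

theorem hwalk (w : Wd) (hw : ∀ c ∈ w, c < 7) (p : Fin table.n) :
    (φ (ev lt w) p).val = table.walkT w.reverse p.val := by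
  rw [ev_eq_mk w hw]
  exact (hφ _ p).trans (by rw [pathOf_toH w hw])

theorem hfix (g : Spor.HN) (hg : g ∈ Index.N) : φ g ⟨0, hn_pos⟩ = ⟨0, hn_pos⟩ := by
  have hfixgen := gensFix
  simp only [Bool.and_eq_true] at hfixgen
  obtain ⟨f0, f2, f4⟩ := hfixgen
  have hle : Index.N ≤ (MulAction.stabilizer (Equiv.Perm (Fin table.n)) (⟨0, hn_pos⟩ : Fin table.n)).comap φ := by
    rw [N_eq_closure, Subgroup.closure_le]
    intro s hs
    show φ s ∈ MulAction.stabilizer _ _
    rw [MulAction.mem_stabilizer_iff]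
    apply Fin.ext
    rcases hs with rfl | rfl | rfl
    · have h := hwalk φ hφ [0] (by decide) ⟨0, hn_pos⟩
      have e : ev lt [0] = HNRel.gx := by simp [ev, lt]
      rw [e] at h
      show (φ HNRel.gx ⟨0, hn_pos⟩).val = 0
      rw [h]
      exact Nat.eq_of_beq_eq_true f0
    · have h := hwalk φ hφ [2] (by decide) ⟨0, hn_pos⟩
      have e : ev lt [2] = HNRel.gy := by simp [ev, lt]
      rw [e] at h
      show (φ HNRel.gy ⟨0, hn_pos⟩).val = 0
      rw [h]
      exact Nat.eq_of_beq_eq_true f2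
    · have h := hwalk φ hφ [4] (by decide) ⟨0, hn_pos⟩
      have e : ev lt [4] = HNRel.gz := by simp [ev, lt]
      rw [e] at h
      show (φ HNRel.gz ⟨0, hn_pos⟩).val = 0
      rw [h]
      exact Nat.eq_of_beq_eq_true f4
  exact MulAction.mem_stabilizer_iff.mp (hle hg)

theorem hstab (g : Spor.HN) (hg : φ g ⟨0, hn_pos⟩ = ⟨0, hn_pos⟩) : g ∈ Index.N := by
  obtain ⟨i, hi, a, ha, c, hc, rfl⟩ := all_double g
  rcases Nat.eq_zero_or_pos i with rfl | hpos
  · have e : r 0 = 1 := rfl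
    rw [e, mul_one]
    exact Index.N.mul_mem ha hc
  · exfalso
    have h1 : φ (r i) ⟨0, hn_pos⟩ = ⟨0, hn_pos⟩ := by
      have e : r i = a⁻¹ * (a * r i * c) * c⁻¹ := by group
      rw [e, map_mul, map_mul, Equiv.Perm.mul_apply, Equiv.Perm.mul_apply,
        hfix φ hφ _ (Index.N.inv_mem hc), hg, hfix φ hφ _ (Index.N.inv_mem ha)]
    have h2 := hwalk φ hφ (rootW i) (rootW_lt i) ⟨0, hn_pos⟩
    have h3 := rootsMove
    rw [allLoop_eq_true] at h3
    have h4 := h3 (i - 1) (by omega)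
    have e : Nat.succ (i - 1) = i := by omega
    rw [e] at h4
    have h5 : (φ (r i) ⟨0, hn_pos⟩).val = 0 := by rw [h1]
    unfold r at h5
    rw [h2] at h5
    have h6 : table.walkT (rootW i).reverse 0 = 0 := h5
    rw [h6] at h4
    exact Bool.noConfusion h4

theorem t_mem_aux (i : ℕ) (hi : 0 < i) (hi9 : i < 9) :
    HNRel.gt ∈ Subgroup.closure ((Index.N : Set Spor.HN) ∪ {r i}) := by
  have h0 := cwOK_all
  rw [allLoop_eq_true] at h0
  have h1 := h0 (i - 1) (by omega)
  have e : Nat.succ (i - 1) = i := by omega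
  rw [e] at h1
  unfold cwOK at h1
  simp only [Bool.and_eq_true] at h1
  obtain ⟨hseg, hlt, hwk⟩ := h1
  have hW : ev lt (flat (rootW i) (cwSeg i)) ∈ Subgroup.closure ((Index.N : Set Spor.HN) ∪ {r i}) :=
    ev_flat_mem (rootW i) (cwSeg i) hseg
  have hlt' : ∀ c ∈ cw i, c < 7 := by
    intro c hc
    have := (List.all_eq_true.mp hlt) c hc
    simpa [Nat.blt_eq] using this
  have hf : φ (ev lt (cw i)) ⟨0, hn_pos⟩ = ⟨0, hn_pos⟩ := by
    apply Fin.ext
    rw [hwalk φ hφ (cw i) hlt']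
    exact Nat.eq_of_beq_eq_true hwk
  have hN := hstab φ hφ _ hf
  have e2 : ev lt (cw i) = HNRel.gt⁻¹ * ev lt (flat (rootW i) (cwSeg i)) := by
    show ev lt (6 :: flat (rootW i) (cwSeg i)) = _
    rw [ev_cons]
    rfl
  rw [e2] at hN
  have e3 : HNRel.gt = ev lt (flat (rootW i) (cwSeg i)) *
      (HNRel.gt⁻¹ * ev lt (flat (rootW i) (cwSeg i)))⁻¹ := by group
  rw [e3]
  exact Subgroup.mul_mem _ hW (Subgroup.inv_mem _ (Subgroup.subset_closure (Or.inl hN)))

end Rep

theorem t_mem (i : ℕ) (hi : 0 < i) (hi9 : i < 9) :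
    HNRel.gt ∈ Subgroup.closure ((Index.N : Set Spor.HN) ∪ {r i}) := by
  obtain ⟨φ, hφ⟩ := Cfsg.Agent.Lib.Helper16.HNP.Main.perm_rep
  exact t_mem_aux φ hφ i hi hi9

/-- the stabiliser of the point `0` in the permutation representation is `N` -/
theorem mem_N_iff : ∃ φ : Spor.HN →* Equiv.Perm (Fin table.n),
    ∀ g, g ∈ Index.N ↔ φ g ⟨0, hn_pos⟩ = ⟨0, hn_pos⟩ := by
  obtain ⟨φ, hφ⟩ := Cfsg.Agent.Lib.Helper16.HNP.Main.perm_rep
  exact ⟨φ, fun g => ⟨hfix φ hφ g, hstab φ hφ g⟩⟩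

theorem N_ne_top : Index.N ≠ ⊤ := by
  intro h
  have h1 := index_N Cfsg.Agent.Lib.Helper21.HNTrans.trans
  rw [h, Subgroup.index_top] at h1
  omega

/-- `N = ⟨x, y, z⟩` is a maximal subgroup of `Spor.HN` -/
theorem isCoatom_N : IsCoatom Index.N := by
  refine Cfsg.Agent.Lib.Helper21.HNDce.isCoatom_of_cover Index.N HNRel.gt N_ne_top ?_
    (fun i : Fin 9 => r i.val) 0 rfl ?_ ?_
  · rw [eq_top_iff, ← hgen]
    apply Subgroup.closure_mono
    rintro g (rfl | rfl | rfl | rfl)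
    · exact Or.inl gx_mem
    · exact Or.inl gy_mem
    · exact Or.inl gz_mem
    · exact Or.inr rfl
  · intro g
    obtain ⟨i, hi, a, ha, c, hc, e⟩ := all_double g
    exact ⟨⟨i, hi⟩, a, ha, c, hc, e⟩
  · intro i hi
    have hpos : 0 < i.val := by
      rcases Nat.eq_zero_or_pos i.val with h | h
      · exact absurd (Fin.ext h) hi
      · exact h
    exact t_mem i.val hpos i.2

end Cfsg.Agent.Lib.Helper21.HNGlue.Coatom
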