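import Mathlib
import Cfsg.Prelude.Def_SporadicB

set_option autoImplicit false

/-! # A non-split double cover of a non-abelian simple group is perfect -/

namespace Cfsg.Agent.Lib.Helper21.HNGlue

open Cfsg
open scoped commutatorElement Pointwise

theorem cover_facts {K H : Type*} [Group K] [Group H] (h : IsNonsplitDoubleCover K H)
    (hs : IsSimpleGroup H) (hna : ∃ a b : H, a * b ≠ b * a) :
    commutator K = ⊤ ∧ IsSimpleGroup (K ⧸ Subgroup.center K) := by
  obtain ⟨hcard, ⟨e⟩, hns⟩ := h
  set Z : Subgroup K := Subgroup.center K with hZ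
  have hsimp : IsSimpleGroup (K ⧸ Z) := e.isSimpleGroup
  refine ⟨?_, hsimp⟩
  set f : K →* K ⧸ Z := QuotientGroup.mk' Z with hf
  have hfs : Function.Surjective f := QuotientGroup.mk'_surjective Z
  -- the quotient is perfect
  have hQ : commutator (K ⧸ Z) = ⊤ := by
    rcases hsimp.eq_bot_or_eq_top_of_normal (commutator (K ⧸ Z)) inferInstance with hb | ht
    · exfalso
      obtain ⟨a, b, hab⟩ := hna
      apply hab
      have hc : ∀ u v : K ⧸ Z, u * v = v * u := by
        intro u v
        have : ⁅u, v⁆ ∈ commutator (K ⧸ Z) := by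
          rw [commutator_def]
          exact Subgroup.commutator_mem_commutator (Subgroup.mem_top u) (Subgroup.mem_top v)
        rw [hb, Subgroup.mem_bot] at this
        exact commutatorElement_eq_one_iff_mul_comm.mp this
      have := hc (e.symm a) (e.symm b)
      have h2 := congrArg e this
      simpa using h2
    · exact ht
  set D : Subgroup K := commutator K with hD
  have hDmap : D.map f = ⊤ := by
    have h1 := Subgroup.map_commutator (⊤ : Subgroup K) ⊤ f
    rw [← commutator_def, ← MonoidHom.range_eq_map, MonoidHom.range_eq_top.mpr hfs,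
      ← commutator_def, hQ] at h1
    exact h1
  have hsup : D ⊔ Z = ⊤ := by
    have := Subgroup.comap_map_eq f D
    rw [hDmap, Subgroup.comap_top, hf, QuotientGroup.ker_mk'] at this
    exact this.symm
  -- `Z` has prime order
  haveI : Fact (Nat.card ↥Z).Prime := ⟨by rw [hcard]; exact Nat.prime_two⟩
  rcases Subgroup.eq_bot_or_eq_top_of_prime_card (D.subgroupOf Z) with hb | ht
  · exfalso
    have hdisj : Disjoint Z D := by
      rw [disjoint_iff, inf_comm]
      rw [Subgroup.subgroupOf_eq_bot] at hb
      exact disjoint_iff.mp hb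
    have hmul : (Z : Set K) * (D : Set K) = Set.univ := by
      rw [← Subgroup.normal_mul, sup_comm, hsup, Subgroup.coe_top]
    exact hns D (Subgroup.isComplement'_of_disjoint_and_mul_eq_univ hdisj hmul)
  · have hZD : Z ≤ D := Subgroup.subgroupOf_eq_top.mp ht
    rw [← hsup]
    exact (sup_eq_left.mpr hZD).symm

end Cfsg.Agent.Lib.Helper21.HNGlue
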