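import Cfsg.Agent.Lib.Helper21.HNGlue.NStruct
import Cfsg.Agent.Lib.Helper21.HNGlue.Cover

set_option autoImplicit false
set_option linter.style.haveILetI false

/-!
# The structure of `⟨x, y, z⟩ ≤ HN`: normal subgroups, abstractly

`P` maps onto `A` (trivial centre) with kernel `{1, c}`; `S ≤ A` is simple non-abelian of index two
and `E = π⁻¹(S)` is a non-split double cover of `S`.  Then every normal subgroup of `P` lies in `E`
or is `P`, and every non-trivial one contains `c`.  All this is transported along an injective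
homomorphism `φ : P →* G`.
-/

namespace Cfsg.Agent.Lib.Helper21.HNGlue

open Cfsg
open scoped commutatorElement

/-- a finite simple group of non-prime order is not abelian -/
theorem exists_not_comm_of_simple {H : Type*} [Group H] [Finite H] (hs : IsSimpleGroup H)
    (hc : ¬ (Nat.card H).Prime) : ∃ a b : H, a * b ≠ b * a := by
  by_contra hcon
  push Not at hcon
  let _i : CommGroup H := { (inferInstance : Group H) with mul_comm := hcon }
  exact hc (IsSimpleGroup.prime_card (α := H))

/-- the centre of a non-abelian simple group is trivial -/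
theorem center_eq_bot_of_simple {H : Type*} [Group H] (hs : IsSimpleGroup H)
    (hna : ∃ a b : H, a * b ≠ b * a) : Subgroup.center H = ⊥ := by
  rcases hs.eq_bot_or_eq_top_of_normal (Subgroup.center H) inferInstance with h | h
  · exact h
  · exfalso
    obtain ⟨a, b, hab⟩ := hna
    have ha : a ∈ Subgroup.center H := by rw [h]; trivial
    exact hab ((Subgroup.mem_center_iff.mp ha b).symm)

section Abstract

variable {P : Type*} [Group P] {A : Type*} [Group A] {HS : Type*} [Group HS]

/-- the normal subgroups of `P` -/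
theorem normal_struct (c : P) (π : P →* A) (hπ : Function.Surjective π)
    (hZA : Subgroup.center A = ⊥) (S : Subgroup A) (hSs : IsSimpleGroup S)
    (hSna : ∃ a b : S, a * b ≠ b * a) (e : S ≃* HS)
    (hker : ∀ r ∈ π.ker, r = 1 ∨ r = c) (hc1 : c ≠ 1) (hcker : π c = 1)
    (hE2 : (S.comap π).index = 2) (hcov : IsNonsplitDoubleCover (S.comap π) HS) :
    (∀ B : Subgroup P, B.Normal → B ≤ S.comap π ∨ B = ⊤) ∧
      (∀ B : Subgroup P, B.Normal → B ≠ ⊥ → c ∈ B) := by
  set E : Subgroup P := S.comap π with hE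
  haveI hEn : E.Normal := Subgroup.normal_of_index_eq_two hE2
  have hHSs : IsSimpleGroup HS := e.symm.isSimpleGroup
  have hHSna : ∃ a b : HS, a * b ≠ b * a := by
    obtain ⟨a, b, hab⟩ := hSna
    refine ⟨e a, e b, fun h => hab ?_⟩
    apply e.injective
    rw [map_mul, map_mul, h]
  obtain ⟨hperfE, hsimpE⟩ := cover_facts hcov hHSs hHSna
  have hkerE : π.ker ≤ E := by
    intro r hr
    show π r ∈ S
    rw [MonoidHom.mem_ker.mp hr]
    exact S.one_mem
  have hcE : c ∈ E := hkerE (MonoidHom.mem_ker.mpr hcker)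
  have hC : Subgroup.centralizer (E : Set P) ≤ E := centralizer_le_of_hom E hE2 π hπ hZA hkerE
  have h1 : ∀ B : Subgroup P, B.Normal → B ≤ E ∨ B = ⊤ := by
    intro B hB
    haveI := hB
    exact normal_le_or_eq_top E hE2 hperfE hsimpE hC B
  refine ⟨h1, ?_⟩
  intro B hB hBne
  haveI := hB
  have hZS : Subgroup.center S = ⊥ := center_eq_bot_of_simple hSs hSna
  rcases le_center_or_le_of_normal_le E hperfE hsimpE B with h | h
  · -- `B ⊓ E` centralises `E`, so it lies in `ker π = {1, c}`
    have hBE : ∀ b ∈ B ⊓ E, b = 1 ∨ b = c := by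
      intro b hb
      apply hker
      rw [MonoidHom.mem_ker]
      have hbS : π b ∈ S := hb.2
      have hcen : (⟨π b, hbS⟩ : S) ∈ Subgroup.center S := by
        rw [Subgroup.mem_center_iff]
        rintro ⟨s, hs⟩
        obtain ⟨g, rfl⟩ := hπ s
        have hgE : g ∈ E := hs
        have := Subgroup.mem_centralizer_iff.mp (h hb) g hgE
        apply Subtype.ext
        show π g * π b = π b * π g
        rw [← map_mul, ← map_mul, this]
      rw [hZS, Subgroup.mem_bot] at hcen
      exact congrArg Subtype.val hcen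
    by_cases hbot : B ⊓ E = ⊥
    · exfalso
      rcases h1 B hB with h2 | h2
      · apply hBne
        rw [← hbot]
        exact (inf_eq_left.mpr h2).symm
      · rw [h2, top_inf_eq] at hbot
        apply hc1
        have : c ∈ (⊥ : Subgroup P) := hbot ▸ hcE
        exact Subgroup.mem_bot.mp this
    · obtain ⟨⟨b, hb⟩, hb1⟩ := Subgroup.ne_bot_iff_exists_ne_one.mp hbot
      rcases hBE b hb with hb' | hb'
      · exact absurd (Subtype.ext hb') hb1
      · rw [← hb']
        exact hb.1
  · exact h hcE

/-- the order of `P` -/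
theorem card_of_ker (c : P) (π : P →* A) (hπ : Function.Surjective π)
    (hker : ∀ r ∈ π.ker, r = 1 ∨ r = c) (hc1 : c ≠ 1) (hcker : π c = 1) :
    Nat.card P = 2 * Nat.card A := by
  have h1 := Subgroup.card_mul_index π.ker
  rw [Subgroup.index_ker, MonoidHom.range_eq_top.mpr hπ, Subgroup.card_top] at h1
  rw [← h1]
  congr 1
  rw [Nat.card_eq_two_iff]
  refine ⟨1, ⟨c, MonoidHom.mem_ker.mpr hcker⟩, ?_, ?_⟩
  · intro h
    exact hc1 (congrArg Subtype.val h).symm
  · ext ⟨r, hr⟩
    simp only [Set.mem_univ, Set.mem_insert_iff, Set.mem_singleton_iff, iff_true]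
    rcases hker r hr with h | h
    · left; exact Subtype.ext h
    · right; exact Subtype.ext h

end Abstract

/-- transport of the normal structure along an injective homomorphism -/
theorem transport_struct {P G : Type*} [Group P] [Group G] (φ : P →* G)
    (hφ : Function.Injective φ) (E : Subgroup P) (hE2 : E.index = 2) (c : P)
    (h1 : ∀ B : Subgroup P, B.Normal → B ≤ E ∨ B = ⊤)
    (h2 : ∀ B : Subgroup P, B.Normal → B ≠ ⊥ → c ∈ B) :
    E.map φ ≤ φ.range ∧ (E.map φ).relIndex φ.range = 2 ∧
      (∀ A : Subgroup G, A ≤ φ.range → (∀ n ∈ φ.range, ∀ a ∈ A, n * a * n⁻¹ ∈ A) →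
        A ≤ E.map φ ∨ A = φ.range) ∧
      (∀ A : Subgroup G, A ≤ φ.range → (∀ n ∈ φ.range, ∀ a ∈ A, n * a * n⁻¹ ∈ A) →
        A ≠ ⊥ → φ c ∈ A) := by
  have hcomap : ∀ A : Subgroup G, A ≤ φ.range → (A.comap φ).map φ = A := by
    intro A hA
    rw [Subgroup.map_comap_eq, inf_eq_right.mpr hA]
  have hnormal : ∀ A : Subgroup G, (∀ n ∈ φ.range, ∀ a ∈ A, n * a * n⁻¹ ∈ A) →
      (A.comap φ).Normal := by
    intro A hA
    refine ⟨fun a ha g => ?_⟩
    show φ (g * a * g⁻¹) ∈ A
    rw [map_mul, map_mul, map_inv]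
    exact hA (φ g) ⟨g, rfl⟩ (φ a) ha
  refine ⟨?_, ?_, ?_, ?_⟩
  · rw [MonoidHom.range_eq_map]
    exact Subgroup.map_mono le_top
  · rw [MonoidHom.range_eq_map, Subgroup.relIndex_map_map_of_injective _ _ hφ,
      Subgroup.relIndex_top_right, hE2]
  · intro A hA hAn
    rcases h1 (A.comap φ) (hnormal A hAn) with h | h
    · left
      rw [← hcomap A hA]
      exact Subgroup.map_mono h
    · right
      rw [← hcomap A hA, h, MonoidHom.range_eq_map]
  · intro A hA hAn hne
    have : A.comap φ ≠ ⊥ := by
      intro h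
      apply hne
      rw [← hcomap A hA, h, Subgroup.map_bot]
    exact h2 (A.comap φ) (hnormal A hAn) this

end Cfsg.Agent.Lib.Helper21.HNGlue
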