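import Mathlib
import Cfsg.Prelude.Def_SporadicB
import Cfsg.Prelude.Def_KGroupFacts
import Cfsg.Agent.Lib.Helper14.HNx.GlueA
import Cfsg.Agent.Lib.Helper14.HNx.GlueB
import Cfsg.Agent.Lib.Helper14.HNx.GlueC

set_option autoImplicit false
set_option linter.style.haveILetI false
set_option linter.deprecated false
set_option linter.unusedVariables false
set_option maxHeartbeats 1000000

/-!
# The structure of `⟨x, y, z⟩ ≤ HN`, abstract part

A variant of helper14's `Glue.main` (same hypotheses, same proof) which exports the facts established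
on the way: `φ` is injective, `ker π = {1, x²}`, and `π⁻¹(S)` is a non-split double cover of `HS` of
index two.
-/

namespace Cfsg.Agent.Lib.Helper21.HNGlue

open Subgroup
open Cfsg.Agent.Lib.Helper14.HNx.Glue
open scoped commutatorElement

universe u

theorem struct_abstract {P : Type u} [Group P] [Finite P] {A : Type*} [Group A] {G : Type*} [Group G]
    {HS : Type u} [Group HS]
    (x y z : P) (hgen : Subgroup.closure ({x, y, z} : Set P) = ⊤) (hz : z * z = 1)
    (hclean : ∀ L : Subgroup P, L.Normal → ⁅x, y⁆ ∈ L → x ∈ L ∧ y ∈ L)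
    (π : P →* A) (hπ : Function.Surjective π) (hker : Nat.card π.ker ≤ 6) (hc : π (x * x) = 1)
    (S : Subgroup A) (hSn : S.Normal) (hSi : S.index = 2) (hSs : IsSimpleGroup S)
    (hScard : Nat.card S = 44352000) (e : S ≃* HS) (hZA : Subgroup.center A = ⊥)
    (hschur : Cfsg.HasCyclicSchurMultiplier HS 2)
    (φ : P →* G) (hφ : φ (x * x) ≠ 1) :
    Function.Injective φ ∧ (∀ r ∈ π.ker, r = 1 ∨ r = x * x) ∧ x * x ≠ 1 ∧
      (S.comap π).index = 2 ∧ Cfsg.IsNonsplitDoubleCover (S.comap π) HS := by
  classical
  haveI := hSn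
  set E : Subgroup P := S.comap π with hE
  haveI hEn : E.Normal := hSn.comap π
  have hEi : E.index = 2 := by rw [hE, Subgroup.index_comap_of_surjective _ hπ, hSi]
  set R : Subgroup P := π.ker with hR
  haveI hRn : R.Normal := MonoidHom.normal_ker π
  have hRE : R ≤ E := by
    intro r hr
    show π r ∈ S
    rw [MonoidHom.mem_ker.mp hr]
    exact S.one_mem
  -- `x, y ∈ E`
  obtain ⟨hxE, hyE⟩ := hclean E hEn (commutator_mem_of_index_two hEi x y)
  -- `E` is perfect
  have hperf : ⁅E, E⁆ = E := by
    haveI : (⁅E, E⁆).Normal := Subgroup.commutator_normal E E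
    obtain ⟨hx', hy'⟩ := hclean ⁅E, E⁆ inferInstance (Subgroup.commutator_mem_commutator hxE hyE)
    obtain ⟨h2, h0⟩ := index_le_two hgen hz ⁅E, E⁆ hx' hy'
    have hle : ⁅E, E⁆ ≤ E := Subgroup.commutator_le_left E E
    have := Subgroup.relIndex_mul_index hle
    rw [hEi] at this
    have h1 : (⁅E, E⁆).relIndex E = 1 := by
      have hne : (⁅E, E⁆).relIndex E ≠ 0 := by
        intro h
        rw [h] at this
        omega
      omega
    exact le_antisymm hle (Subgroup.relIndex_eq_one.mp h1)
  -- `R` is central in `E`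
  have hEC : E ≤ Subgroup.centralizer (R : Set P) :=
    le_centralizer_ker π hπ hker S hSs (by rw [hScard]; norm_num) hperf
  -- the stem extension
  let ρ : E →* S := (π.comp E.subtype).codRestrict S (fun g => g.2)
  have hρ : Function.Surjective ρ := by
    rintro ⟨s, hs⟩
    obtain ⟨g, rfl⟩ := hπ s
    exact ⟨⟨g, hs⟩, rfl⟩
  let σ : E →* HS := e.toMonoidHom.comp ρ
  have hσ : Function.Surjective σ := e.surjective.comp hρ
  have hσker : ∀ g : E, g ∈ σ.ker ↔ (g : P) ∈ R := by
    intro g
    rw [MonoidHom.mem_ker]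
    show e (ρ g) = 1 ↔ _
    rw [MulEquiv.map_eq_one_iff, hR, MonoidHom.mem_ker]
    constructor
    · intro h
      exact congrArg Subtype.val h
    · intro h
      exact Subtype.ext h
  haveI hEperf : Group.IsPerfect E := Subgroup.isPerfect_iff.mpr hperf
  have hstem : Cfsg.IsStemExtension σ := by
    refine ⟨hσ, ?_, ?_⟩
    · intro g hg
      rw [Subgroup.mem_center_iff]
      intro h
      have h1 := (Subgroup.mem_centralizer_iff.mp (hEC h.2)) g.1 ((hσker g).mp hg)
      exact Subtype.ext h1.symm
    · rw [Group.IsPerfect.commutator_eq_top]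
      exact le_top
  obtain ⟨ψ, hψ⟩ := hschur.2 E σ hstem
  have hk2 : Nat.card σ.ker ≤ 2 := by
    have h1 := Nat.card_le_card_of_surjective ψ hψ
    have h2 : Nat.card (Multiplicative (ZMod 2)) = 2 := by
      rw [Nat.card_eq_fintype_card, Fintype.card_multiplicative, ZMod.card]
    rw [h2] at h1
    exact h1
  -- the element `c = x * x`
  have hc1 : x * x ≠ 1 := fun h => hφ (by rw [h, map_one])
  have hcR : x * x ∈ R := hc
  let xE : E := ⟨x, hxE⟩
  let cE : σ.ker := ⟨xE * xE, (hσker _).mpr hcR⟩
  have hcE1 : cE ≠ 1 := by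
    intro h
    apply hc1
    have := congrArg (fun k : σ.ker => ((k : E) : P)) h
    exact this
  have hk2' : Nat.card σ.ker = 2 := by
    apply le_antisymm hk2
    have : 1 < Nat.card σ.ker := Finite.one_lt_card_iff_nontrivial.mpr ⟨⟨cE, 1, hcE1⟩⟩
    omega
  have hR2 : ∀ r ∈ R, r = 1 ∨ r = x * x := by
    intro r hr
    by_cases h1 : r = 1
    · exact Or.inl h1
    · right
      obtain ⟨w, -, hw⟩ := (Nat.card_eq_two_iff' (1 : σ.ker)).mp hk2'
      let rE : σ.ker := ⟨⟨r, hRE hr⟩, (hσker _).mpr hr⟩
      have hr1 : rE ≠ 1 := by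
        intro h
        apply h1
        exact congrArg (fun k : σ.ker => ((k : E) : P)) h
      have e1 := hw rE hr1
      have e2 := hw cE hcE1
      have := e1.trans e2.symm
      exact congrArg (fun k : σ.ker => ((k : E) : P)) this
  have hRR : ∀ r ∈ R, r * r = 1 := by
    have hcc : (x * x) * (x * x) = 1 := by
      rcases hR2 _ (R.mul_mem hcR hcR) with h | h
      · exact h
      · exfalso
        exact hc1 (mul_eq_left.mp h)
    intro r hr
    rcases hR2 r hr with rfl | rfl
    · exact one_mul 1
    · exact hcc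
  -- `φ` is injective
  have hME : ∀ m, φ m = 1 → m ∈ E → m = 1 := by
    set M : Subgroup P := φ.ker with hM
    set J : Subgroup A := (M ⊓ E).map π with hJ
    have hJn : J.Normal := (inferInstance : (M ⊓ E).Normal).map π hπ
    have hJS : J ≤ S := by
      rintro _ ⟨g, hg, rfl⟩
      exact hg.2
    have hJ' : (J.subgroupOf S).Normal := hJn.subgroupOf S
    rcases hSs.eq_bot_or_eq_top_of_normal _ hJ' with h | h
    · rw [Subgroup.subgroupOf_eq_bot, disjoint_iff, inf_eq_left.mpr hJS] at h
      intro m hm hmE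
      have h1 : π m ∈ J := ⟨m, ⟨hm, hmE⟩, rfl⟩
      rw [h, Subgroup.mem_bot] at h1
      rcases hR2 m h1 with h2 | h2
      · exact h2
      · exfalso
        apply hφ
        rw [← h2]
        exact hm
    · exfalso
      have hSJ : S ≤ J := Subgroup.subgroupOf_eq_top.mp h
      obtain ⟨m, ⟨hmM, hmE⟩, hmx⟩ := hSJ hxE
      have hr : m⁻¹ * x ∈ R := by
        rw [hR, MonoidHom.mem_ker, map_mul, map_inv, hmx]
        simp
      have hcomm : (m⁻¹ * x) * m = m * (m⁻¹ * x) :=
        (Subgroup.mem_centralizer_iff.mp (hEC hmE)) _ hr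
      have hx2 : x * x = m * m * ((m⁻¹ * x) * (m⁻¹ * x)) := by
        calc x * x = m * (m⁻¹ * x) * (m * (m⁻¹ * x)) := by group
          _ = m * ((m⁻¹ * x) * m) * (m⁻¹ * x) := by group
          _ = m * (m * (m⁻¹ * x)) * (m⁻¹ * x) := by rw [hcomm]
          _ = m * m * ((m⁻¹ * x) * (m⁻¹ * x)) := by group
      apply hφ
      rw [hx2, hRR _ hr, mul_one, map_mul, MonoidHom.mem_ker.mp hmM, one_mul]
  have hφinj : Function.Injective φ := by
    rw [injective_iff_map_eq_one]
    intro m hm
    have hcen : m ∈ Subgroup.center P := by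
      rw [Subgroup.mem_center_iff]
      intro g
      have h1 : ⁅g, m⁆ ∈ E := commutator_mem_of hgen hz E hxE hyE g m
      have h2 : φ ⁅g, m⁆ = 1 := by
        rw [commutatorElement_def, map_mul, map_mul, map_mul, map_inv, map_inv, hm]
        group
      have h3 := hME _ h2 h1
      rw [commutatorElement_def] at h3
      calc g * m = g * m * g⁻¹ * m⁻¹ * m * g := by group
        _ = m * g := by rw [h3, one_mul]
    have h4 : π m ∈ Subgroup.center A := by
      rw [Subgroup.mem_center_iff]
      intro a
      obtain ⟨g, rfl⟩ := hπ a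
      rw [← map_mul, ← map_mul, (Subgroup.mem_center_iff.mp hcen) g]
    rw [hZA, Subgroup.mem_bot] at h4
    exact hME m hm (hRE h4)
  -- the centre of `HS` is trivial
  have hZHS : Subgroup.center HS = ⊥ := by
    haveI : IsSimpleGroup HS := e.symm.isSimpleGroup
    haveI : Group.IsPerfect HS := Group.IsPerfect.ofSurjective hσ
    rcases (inferInstance : (Subgroup.center HS).Normal).eq_bot_or_eq_top with h | h
    · exact h
    · exfalso
      have h1 := (commutator_eq_bot_iff_center_eq_top HS).mpr h
      rw [Group.IsPerfect.commutator_eq_top] at h1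
      have h2 := congrArg (fun K : Subgroup HS => Nat.card K) h1
      simp only [Subgroup.card_top, Subgroup.card_bot] at h2
      rw [← Nat.card_congr e.toEquiv, hScard] at h2
      omega
  -- the cover structure on `E`
  have hcen : Subgroup.center E = σ.ker := by
    ext g
    constructor
    · intro hg
      have h1 : σ g ∈ Subgroup.center HS := by
        rw [Subgroup.mem_center_iff]
        intro h
        obtain ⟨h', rfl⟩ := hσ h
        rw [← map_mul, ← map_mul, (Subgroup.mem_center_iff.mp hg) h']
      rw [hZHS, Subgroup.mem_bot] at h1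
      exact h1
    · exact fun hg => hstem.2.1 hg
  have hcover : Cfsg.IsNonsplitDoubleCover E HS := by
    refine ⟨?_, ?_, ?_⟩
    · rw [hcen]
      exact hk2'
    · exact ⟨(QuotientGroup.quotientMulEquivOfEq hcen).trans
        (QuotientGroup.quotientKerEquivOfSurjective σ hσ)⟩
    · intro L hL
      have hd := hL.disjoint
      obtain ⟨⟨ζ, l⟩, hζl, -⟩ := (Subgroup.isComplement_iff_existsUnique.mp
        (Subgroup.isComplement'_def.mp hL)) xE
      have hζl' : (ζ : E) * (l : E) = xE := hζl
      have hζc : ∀ h : E, h * (ζ : E) = (ζ : E) * h := Subgroup.mem_center_iff.mp ζ.2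
      have hζR : ((ζ : E) : P) ∈ R := (hσker _).mp (hcen ▸ ζ.2)
      have hζζ : (ζ : E) * (ζ : E) = 1 := Subtype.ext (hRR _ hζR)
      have hxx : xE * xE = (l : E) * (l : E) := by
        rw [← hζl']
        calc (ζ : E) * l * (ζ * l) = (ζ : E) * (l * ζ) * l := by group
          _ = (ζ : E) * (ζ * l) * l := by rw [hζc]
          _ = ((ζ : E) * ζ) * (l * l) := by group
          _ = (l : E) * l := by rw [hζζ, one_mul]
      have h1 : xE * xE ∈ Subgroup.center E := by
        rw [hcen]
        exact cE.2
      have h2 : xE * xE ∈ L := by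
        rw [hxx]
        exact L.mul_mem l.2 l.2
      have h3 := Subgroup.disjoint_def.mp hd h1 h2
      apply hc1
      exact congrArg (fun k : E => (k : P)) h3
  exact ⟨hφinj, hR2, hc1, hEi, hcover⟩

end Cfsg.Agent.Lib.Helper21.HNGlue
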