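import Cfsg.Agent.Lib.Helper14.HNx.Main
import Cfsg.Agent.Lib.Helper21.HNGlue.StructA
import Cfsg.Agent.Lib.Helper21.HNGlue.StructB

set_option autoImplicit false
set_option linter.style.haveILetI false

/-!
# The structure of `N = ⟨x, y, z⟩ ≤ HN`

`N` has order `177408000`, a subgroup `K` of index two such that every subgroup of `N` normalised by `N`
lies in `K` or is `N`, and every non-trivial such subgroup contains `x²`.  (On helper14's kit for S1708;
the Schur multiplier of `HS` and `x² ≠ 1` are hypotheses here, as in his `main_of`.)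
-/

namespace Cfsg.Agent.Lib.Helper21.HNGlue

open Cfsg Cfsg.Agent.Lib.Helper14.HNx Cfsg.Agent.Lib.Helper14.HNx.Main

/-- the subgroup `N = ⟨x, y, z⟩` of the presented group `HN` -/
abbrev hnN : Subgroup (PresentedGroup HNrels) :=
  (Subgroup.closure ({Cfsg.Spor.HN.x, Cfsg.Spor.HN.y, Cfsg.Spor.HN.z} :
    Set (FreeGroup Cfsg.Spor.HN.Gen))).map (PresentedGroup.mk HNrels)

theorem hn_struct (hschur : Cfsg.HasCyclicSchurMultiplier ↥Cfsg.Spor.HS 2)
    (hx : (PresentedGroup.mk HNrels Cfsg.Spor.HN.x) ^ 2 ≠ 1) :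
    Nat.card hnN = 177408000 ∧ ∃ K : Subgroup (PresentedGroup HNrels), K ≤ hnN ∧
      K.relIndex hnN = 2 ∧
      (∀ A : Subgroup (PresentedGroup HNrels), A ≤ hnN →
        (∀ n ∈ hnN, ∀ a ∈ A, n * a * n⁻¹ ∈ A) → A ≤ K ∨ A = hnN) ∧
      (∀ A : Subgroup (PresentedGroup HNrels), A ≤ hnN →
        (∀ n ∈ hnN, ∀ a ∈ A, n * a * n⁻¹ ∈ A) → A ≠ ⊥ →
        (PresentedGroup.mk HNrels Cfsg.Spor.HN.x) ^ 2 ∈ A) := by
  haveI := cardP0.1
  obtain ⟨π, hπ, hc⟩ := exists_pi
  obtain ⟨hcG, S, hSn, hSi, hSs, hScard, ⟨e⟩, hZ⟩ := GamStruct.gam_structure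
  have hker : Nat.card π.ker ≤ 6 := by
    have h1 := Subgroup.card_mul_index π.ker
    rw [Subgroup.index_ker, MonoidHom.range_eq_top.mpr hπ, Subgroup.card_top, hcG] at h1
    have h2 := cardP0.2
    rw [← h1] at h2
    exact Nat.le_of_mul_le_mul_right h2 (by norm_num)
  have hφx : φHN (gx * gx) = (PresentedGroup.mk HNrels Cfsg.Spor.HN.x) ^ 2 := by
    rw [map_mul, φHN_of, ← pow_two]
    rfl
  have hφ : φHN (gx * gx) ≠ 1 := by
    rw [hφx]
    exact hx
  obtain ⟨hinj, hR2, hc1, hEi, hcover⟩ := struct_abstract gx gy gz hgen hz hclean π hπ hker hc S hSn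
    hSi hSs hScard e hZ hschur φHN hφ
  haveI : Finite S := Nat.finite_of_card_ne_zero (by rw [hScard]; norm_num)
  have hSna : ∃ a b : S, a * b ≠ b * a :=
    exists_not_comm_of_simple hSs (by rw [hScard]; norm_num)
  obtain ⟨h1, h2⟩ := normal_struct (gx * gx) π hπ hZ S hSs hSna e hR2 hc1 hc hEi hcover
  have hcard := card_of_ker (gx * gx) π hπ hR2 hc1 hc
  obtain ⟨t1, t2, t3, t4⟩ := transport_struct φHN hinj (S.comap π) hEi (gx * gx) h1 h2
  rw [range_φHN] at t1 t2 t3 t4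
  rw [hφx] at t4
  refine ⟨?_, (S.comap π).map φHN, t1, t2, t3, t4⟩
  have e1 : Nat.card hnN = Nat.card φHN.range := by rw [range_φHN]
  rw [e1, ← Nat.card_congr (MonoidHom.ofInjective hinj).toEquiv, hcard, hcG]

end Cfsg.Agent.Lib.Helper21.HNGlue
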