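import Mathlib
import Cfsg.Prelude.Def_Spor_HN

set_option autoImplicit false

/-! # The presented Harada–Norton group is perfect

Abelianising the fourteen relators kills all four generators. -/

namespace Cfsg.Agent.Lib.Helper21.HNGlue

open Cfsg Cfsg.Spor

/-- the relator set of the presentation -/
abbrev hnRels : Set (FreeGroup HN.Gen) := coxRelators HN.edges ∪ {r | r ∈ HN.extra}

/-- the quotient map from the free group -/
noncomputable abbrev hnMk : FreeGroup HN.Gen →* Spor.HN := PresentedGroup.mk hnRels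

theorem hnMk_eq_one {r : FreeGroup HN.Gen} (h : r ∈ HN.extra) : hnMk r = 1 :=
  (PresentedGroup.mk_eq_one_iff).2 (Subgroup.subset_normalClosure (Or.inr h))

/-- the additive abelianisation of a word -/
noncomputable def hnAb (w : FreeGroup HN.Gen) : Additive (Abelianization Spor.HN) :=
  Additive.ofMul (Abelianization.of (hnMk w))

theorem hnAb_mul (u v : FreeGroup HN.Gen) : hnAb (u * v) = hnAb u + hnAb v := by
  simp only [hnAb, map_mul, ofMul_mul]

theorem hnAb_inv (u : FreeGroup HN.Gen) : hnAb u⁻¹ = - hnAb u := by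
  simp only [hnAb, map_inv, ofMul_inv]

theorem hnAb_pow (u : FreeGroup HN.Gen) (n : ℕ) : hnAb (u ^ n) = n • hnAb u := by
  simp only [hnAb, map_pow, ofMul_pow]

theorem hnAb_rel {r : FreeGroup HN.Gen} (h : r ∈ HN.extra) : hnAb r = 0 := by
  simp only [hnAb, hnMk_eq_one h, map_one, ofMul_one]

theorem hnAb_gens : hnAb HN.x = 0 ∧ hnAb HN.y = 0 ∧ hnAb HN.z = 0 ∧ hnAb HN.t = 0 := by
  have mem : ∀ r, r ∈ HN.extra → hnAb r = 0 := fun r h => hnAb_rel h
  simp only [HN.extra, List.mem_cons, List.not_mem_nil, or_false, forall_eq_or_imp, forall_eq] at mem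
  obtain ⟨h1, h2, h3, h4, h5, h6, h7, h8, h9, h10, h11, h12, h13, h14⟩ := mem
  simp only [hnAb_mul, hnAb_inv, hnAb_pow] at h1 h2 h3 h4 h5 h6 h7 h8 h9 h10 h11 h12 h13 h14
  set X := hnAb HN.x
  set Y := hnAb HN.y
  set Z := hnAb HN.z
  set T := hnAb HN.t
  have hY : Y = 0 := by
    have e : Y = 2 • (8 • (X + Y)) - 4 • (2 • X + Y + 2 • X + -Y) - 3 • (-X + 2 • Y + X + 3 • Y) := by abel
    rw [e, h5, h2, h4]; simp
  have hT : T = 0 := by
    have e : T = 2 • (-X + T + X + 2 • T) - 5 • T := by abel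
    rw [e, h12, h11]; simp
  have hZ : Z = 0 := by
    have e : Z = 3 • (Z + T) - 2 • Z - 3 • T := by abel
    rw [e, h14, h7, hT]; simp
  have hX : X = 0 := by
    have e : X = (Z + 3 • (-(3 • Y + X + Y + X + Y) + Z + (3 • Y + X + Y + X + Y) + X)) - 2 • Z - 2 • Z - (2 • (Z + X) - 2 • Z) := by abel
    rw [e, h10, h8, h7]; simp
  exact ⟨hX, hY, hZ, hT⟩

/-- The presented Harada–Norton group is perfect. -/
theorem perfect_HN : commutator Spor.HN = ⊤ := by
  have hhom : (Abelianization.of).comp hnMk = (1 : FreeGroup HN.Gen →* Abelianization Spor.HN) := by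
    apply FreeGroup.ext_hom
    intro g
    obtain ⟨hx, hy, hz, ht⟩ := hnAb_gens
    have key : ∀ w : FreeGroup HN.Gen, hnAb w = 0 → Abelianization.of (hnMk w) = 1 := by
      intro w hw
      simpa [hnAb] using hw
    cases g with
    | x => exact key _ hx
    | y => exact key _ hy
    | z => exact key _ hz
    | t => exact key _ ht
  rw [eq_top_iff]
  intro g _
  obtain ⟨w, rfl⟩ := PresentedGroup.mk_surjective hnRels g
  have h1 : Abelianization.of (hnMk w) = 1 := by
    have := DFunLike.congr_fun hhom w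
    simpa using this
  rw [← Abelianization.ker_of Spor.HN]
  exact MonoidHom.mem_ker.mpr h1

end Cfsg.Agent.Lib.Helper21.HNGlue
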