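import Mathlib

set_option autoImplicit false

/-! # A simplicity criterion

A perfect group with a core-free maximal subgroup `N` whose proper normal subgroups all lie in a
subgroup `K` of index 2 of `N` is simple. -/

namespace Cfsg.Agent.Lib.Helper21.HNGlue

open scoped commutatorElement

/-- commutators lie in a subgroup of relative index 2 -/
theorem commutator_mem_of_relIndex_two {G : Type*} [Group G] {N K : Subgroup G}
    (h2 : K.relIndex N = 2) {a b : G} (ha : a ∈ N) (hb : b ∈ N) : ⁅a, b⁆ ∈ K := by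
  have hidx : (K.subgroupOf N).index = 2 := h2
  have key : ∀ u v : N, u * v ∈ K.subgroupOf N ↔ (u ∈ K.subgroupOf N ↔ v ∈ K.subgroupOf N) :=
    fun u v => Subgroup.mul_mem_iff_of_index_two hidx
  have hnorm : (K.subgroupOf N).Normal := Subgroup.normal_of_index_eq_two hidx
  set u : N := ⟨a, ha⟩
  set v : N := ⟨b, hb⟩
  have hc : ⁅u, v⁆ ∈ K.subgroupOf N := by
    rw [commutatorElement_def, key]
    have h1 : u * v * u⁻¹ ∈ K.subgroupOf N ↔ v ∈ K.subgroupOf N := by
      constructor
      · intro h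
        have h' := hnorm.conj_mem _ h u⁻¹
        have e : u⁻¹ * (u * v * u⁻¹) * u⁻¹⁻¹ = v := by group
        rwa [e] at h'
      · intro h
        exact hnorm.conj_mem _ h _
    rw [h1, inv_mem_iff]
  have := Subgroup.mem_subgroupOf.mp hc
  simpa [commutatorElement_def, u, v] using this

/-- the simplicity criterion -/
theorem isSimpleGroup_of_maximal {G : Type*} [Group G] [Nontrivial G] (hperf : commutator G = ⊤)
    (N K : Subgroup G) (hKN : K ≤ N) (hK2 : K.relIndex N = 2) (hmax : IsCoatom N)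
    (hcore : ∀ M : Subgroup G, M.Normal → M ≤ N → M = ⊥)
    (hstruct : ∀ A : Subgroup G, A ≤ N → (∀ n ∈ N, ∀ a ∈ A, n * a * n⁻¹ ∈ A) → A ≤ K ∨ A = N) :
    IsSimpleGroup G := by
  refine ⟨fun M hM => ?_⟩
  by_cases hbot : M = ⊥
  · exact Or.inl hbot
  right
  have hMN : ¬ M ≤ N := fun h => hbot (hcore M hM h)
  have hsup : N ⊔ M = ⊤ := by
    by_contra hne
    have hlt : N < N ⊔ M := lt_of_le_of_ne le_sup_left (fun h => hMN (h ▸ le_sup_right))
    exact hne (hmax.2 _ hlt)
  -- the intersection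
  have hA := hstruct (M ⊓ N) inf_le_right (by
    intro n hn a ha
    exact ⟨hM.conj_mem a ha.1 n, N.mul_mem (N.mul_mem hn ha.2) (N.inv_mem hn)⟩)
  rcases hA with hA | hA
  · -- `M ⊓ N ≤ K`: then `M ⊔ K` contains all commutators but is proper
    exfalso
    have hcomm : ∀ g h : G, ⁅g, h⁆ ∈ M ⊔ K := by
      intro g h
      have hg : g ∈ N ⊔ M := by rw [hsup]; trivial
      have hh : h ∈ N ⊔ M := by rw [hsup]; trivial
      rw [Subgroup.mem_sup_of_normal_right] at hg hh
      obtain ⟨n, hn, m, hm, rfl⟩ := hg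
      obtain ⟨n', hn', m', hm', rfl⟩ := hh
      -- modulo `M` the commutator is `⁅n, n'⁆`
      have h1 : (QuotientGroup.mk' M) ⁅n * m, n' * m'⁆ = (QuotientGroup.mk' M) ⁅n, n'⁆ := by
        have e1 : (QuotientGroup.mk' M) (n * m) = (QuotientGroup.mk' M) n := by
          rw [QuotientGroup.mk'_apply, QuotientGroup.mk'_apply]
          exact (QuotientGroup.eq (s := M)).mpr (by simpa using M.inv_mem hm)
        have e2 : (QuotientGroup.mk' M) (n' * m') = (QuotientGroup.mk' M) n' := by
          rw [QuotientGroup.mk'_apply, QuotientGroup.mk'_apply]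
          exact (QuotientGroup.eq (s := M)).mpr (by simpa using M.inv_mem hm')
        rw [map_commutatorElement, map_commutatorElement, e1, e2]
      have h2 : (⁅n, n'⁆)⁻¹ * ⁅n * m, n' * m'⁆ ∈ M := by
        have := (QuotientGroup.eq (s := M)).mp h1.symm
        simpa using this
      have h3 : ⁅n, n'⁆ ∈ K := commutator_mem_of_relIndex_two hK2 hn hn'
      have : ⁅n * m, n' * m'⁆ = ⁅n, n'⁆ * ((⁅n, n'⁆)⁻¹ * ⁅n * m, n' * m'⁆) := by group
      rw [this]
      have hk : ⁅n, n'⁆ ∈ M ⊔ K := Subgroup.mem_sup_right h3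
      exact (M ⊔ K).mul_mem hk (Subgroup.mem_sup_left h2)
    have htop : M ⊔ K = ⊤ := by
      rw [eq_top_iff, ← hperf, commutator_eq_closure, Subgroup.closure_le]
      rintro _ ⟨g, h, rfl⟩
      exact hcomm g h
    -- an element of `N` outside `K`
    have hex : ∃ n ∈ N, n ∉ K := by
      by_contra hno
      push Not at hno
      have : N ≤ K := hno
      have : K.relIndex N = 1 := Subgroup.relIndex_eq_one.mpr this
      omega
    obtain ⟨n, hn, hnK⟩ := hex
    have hn' : n ∈ M ⊔ K := by rw [htop]; trivial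
    rw [Subgroup.mem_sup_of_normal_left] at hn'
    obtain ⟨m, hm, k, hk, rfl⟩ := hn'
    have hmN : m ∈ N := by
      have : m = m * k * k⁻¹ := by group
      rw [this]
      exact N.mul_mem hn (N.inv_mem (hKN hk))
    exact hnK (K.mul_mem (hA ⟨hm, hmN⟩) hk)
  · -- `N ≤ M`
    have hNM : N ≤ M := by rw [← hA]; exact inf_le_left
    have : N ⊔ M = M := sup_eq_right.mpr hNM
    rw [← this, hsup]

end Cfsg.Agent.Lib.Helper21.HNGlue
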