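import Cfsg.Prelude.Def_Sporadic
import Cfsg.Agent.Lib.Helper21.HNGlue.StructC
import Cfsg.Agent.Lib.Helper21.HNGlue.Perfect
import Cfsg.Agent.Lib.Helper21.HNGlue.Simple

set_option autoImplicit false
set_option linter.style.haveILetI false

/-!
# `HN` is simple of order `273030912000000`, modulo the index, the maximality and the core of `N`
-/

namespace Cfsg.Agent.Lib.Helper21.HNGlue

open Cfsg Cfsg.Agent.Lib.Helper14.HNx.Main

/-- A normal subgroup of `HN` inside `N` is trivial, given a transitive action in which `N` fixes a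
point and `x²` does not act trivially. -/
theorem core_free_of_action (hschur : Cfsg.HasCyclicSchurMultiplier ↥Cfsg.Spor.HS 2)
    (hx : (PresentedGroup.mk HNrels Cfsg.Spor.HN.x) ^ 2 ≠ 1)
    {Ω : Type*} [MulAction (PresentedGroup HNrels) Ω]
    [MulAction.IsPretransitive (PresentedGroup HNrels) Ω] (x0 : Ω)
    (hN : hnN ≤ MulAction.stabilizer (PresentedGroup HNrels) x0)
    (hmove : ∃ y : Ω, (PresentedGroup.mk HNrels Cfsg.Spor.HN.x) ^ 2 • y ≠ y) :
    ∀ M : Subgroup (PresentedGroup HNrels), M.Normal → M ≤ hnN → M = ⊥ := by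
  intro M hM hMN
  by_contra hne
  obtain ⟨-, K, -, -, -, h4⟩ := hn_struct hschur hx
  have hw : (PresentedGroup.mk HNrels Cfsg.Spor.HN.x) ^ 2 ∈ M :=
    h4 M hMN (fun n _ a ha => hM.conj_mem a ha n) hne
  obtain ⟨y, hy⟩ := hmove
  apply hy
  obtain ⟨g, rfl⟩ := MulAction.exists_smul_eq (PresentedGroup HNrels) x0 y
  have h1 : g⁻¹ * (PresentedGroup.mk HNrels Cfsg.Spor.HN.x) ^ 2 * g ∈ M := by
    have := hM.conj_mem _ hw g⁻¹
    rwa [inv_inv] at this
  have h2 := MulAction.mem_stabilizer_iff.mp (hN (hMN h1))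
  calc (PresentedGroup.mk HNrels Cfsg.Spor.HN.x) ^ 2 • g • x0
      = g • (g⁻¹ * (PresentedGroup.mk HNrels Cfsg.Spor.HN.x) ^ 2 * g) • x0 := by
        simp only [← mul_smul]; group
    _ = g • x0 := by rw [h2]

/-- the same for a permutation representation -/
theorem core_free_of_perm (hschur : Cfsg.HasCyclicSchurMultiplier ↥Cfsg.Spor.HS 2)
    (hx : (PresentedGroup.mk HNrels Cfsg.Spor.HN.x) ^ 2 ≠ 1)
    {Ω : Type*} (φ : PresentedGroup HNrels →* Equiv.Perm Ω) (x0 : Ω)
    (htrans : ∀ p : Ω, ∃ g, φ g x0 = p) (hN : ∀ g ∈ hnN, φ g x0 = x0)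
    (hmove : ∃ y : Ω, φ ((PresentedGroup.mk HNrels Cfsg.Spor.HN.x) ^ 2) y ≠ y) :
    ∀ M : Subgroup (PresentedGroup HNrels), M.Normal → M ≤ hnN → M = ⊥ := by
  letI : MulAction (PresentedGroup HNrels) Ω := MulAction.compHom Ω φ
  have hsmul : ∀ (g : PresentedGroup HNrels) (y : Ω), g • y = φ g y := fun _ _ => rfl
  haveI : MulAction.IsPretransitive (PresentedGroup HNrels) Ω := by
    refine ⟨fun a b => ?_⟩
    obtain ⟨ga, hga⟩ := htrans a
    obtain ⟨gb, hgb⟩ := htrans b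
    refine ⟨gb * ga⁻¹, ?_⟩
    rw [hsmul, map_mul, map_inv, Equiv.Perm.mul_apply, ← hga, Equiv.Perm.inv_def, Equiv.symm_apply_apply, hgb]
  refine core_free_of_action hschur hx x0 ?_ ?_
  · intro g hg
    rw [MulAction.mem_stabilizer_iff, hsmul]
    exact hN g hg
  · obtain ⟨y, hy⟩ := hmove
    exact ⟨y, by rw [hsmul]; exact hy⟩

/-- the final assembly -/
theorem isHN_of (hschur : Cfsg.HasCyclicSchurMultiplier ↥Cfsg.Spor.HS 2)
    (hx : (PresentedGroup.mk HNrels Cfsg.Spor.HN.x) ^ 2 ≠ 1)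
    (hidx : hnN.index = 1539000) (hmax : IsCoatom hnN)
    (hcore : ∀ M : Subgroup (PresentedGroup HNrels), M.Normal → M ≤ hnN → M = ⊥) :
    Cfsg.IsHN Cfsg.Spor.HN := by
  obtain ⟨hcardN, K, hKN, hK2, hstruct, -⟩ := hn_struct hschur hx
  have hcard : Nat.card (PresentedGroup HNrels) = 273030912000000 := by
    have h := Subgroup.card_mul_index hnN
    rw [hcardN, hidx] at h
    rw [← h]
  haveI : Finite (PresentedGroup HNrels) := Nat.finite_of_card_ne_zero (by rw [hcard]; norm_num)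
  haveI : Nontrivial (PresentedGroup HNrels) :=
    Finite.one_lt_card_iff_nontrivial.mp (by rw [hcard]; norm_num)
  exact ⟨isSimpleGroup_of_maximal perfect_HN hnN K hKN hK2 hmax hcore hstruct, hcard⟩

end Cfsg.Agent.Lib.Helper21.HNGlue
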