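import Mathlib

set_option autoImplicit false

/-! # Maximality of a point stabiliser from the suborbit lengths -/

namespace Cfsg.Agent.Lib.Helper21.HNGlue

open MulAction

/-- If `G` acts transitively on the finite set `Ω`, the orbits of the point stabiliser `N` of `x0`
are unions of fibres of a labelling `lab` (each fibre lies in one `N`-orbit), and no sum of fibre sizes containing the fibre of `x0`
divides `|Ω|` except `1` and `|Ω|`, then `N` is a maximal subgroup. -/
theorem isCoatom_of_suborbits {G Ω ι : Type*} [Group G] [MulAction G Ω] [Finite Ω]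
    [Fintype ι] [DecidableEq ι] [IsPretransitive G Ω] (x0 : Ω) (lab : Ω → ι) (s : ι → ℕ)
    (hconn : ∀ ω ω', lab ω = lab ω' → ∃ g ∈ stabilizer G x0, g • ω = ω')
    (hsize : ∀ i, Nat.card {ω // lab ω = i} = s i)
    (harith : ∀ I : Finset ι, lab x0 ∈ I → (∑ i ∈ I, s i) ∣ Nat.card Ω →
      (∑ i ∈ I, s i) = 1 ∨ (∑ i ∈ I, s i) = Nat.card Ω)
    (hbig : 1 < Nat.card Ω) : IsCoatom (stabilizer G x0) := by
  classical
  have : Fintype Ω := Fintype.ofFinite Ω
  set N := stabilizer G x0 with hN
  have hindex : N.index = Nat.card Ω := by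
    rw [hN, index_stabilizer_of_transitive]
  refine ⟨?_, ?_⟩
  · intro htop
    rw [htop, Subgroup.index_top] at hindex
    omega
  · intro M hNM
    -- the `M`-orbit of `x0`
    set B : Set Ω := {ω | ∃ m ∈ M, m • x0 = ω} with hB
    set I : Finset ι := Finset.univ.filter (fun i => ∃ ω ∈ B, lab ω = i) with hI
    have hx0B : x0 ∈ B := ⟨1, M.one_mem, one_smul _ _⟩
    have hx0I : lab x0 ∈ I := by
      rw [hI, Finset.mem_filter]
      exact ⟨Finset.mem_univ _, x0, hx0B, rfl⟩
    have hBN : ∀ g ∈ N, ∀ ω ∈ B, g • ω ∈ B := by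
      rintro g hg ω ⟨m, hm, rfl⟩
      exact ⟨g * m, M.mul_mem (hNM.le hg) hm, by rw [mul_smul]⟩
    have hBI : ∀ ω, ω ∈ B ↔ lab ω ∈ I := by
      intro ω
      constructor
      · intro h
        rw [hI, Finset.mem_filter]
        exact ⟨Finset.mem_univ _, ω, h, rfl⟩
      · intro h
        rw [hI, Finset.mem_filter] at h
        obtain ⟨-, ω', hω', hl⟩ := h
        obtain ⟨g, hg, rfl⟩ := hconn ω' ω hl
        exact hBN g hg ω' hω'
    -- the size of `B`
    have hcardB : Nat.card B = ∑ i ∈ I, s i := by
      have hBF : B = ↑(Finset.univ.filter (fun ω => lab ω ∈ I)) := by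
        ext ω
        rw [hBI ω]
        simp
      rw [hBF, Nat.card_eq_fintype_card]
      simp only [Finset.coe_sort_coe, Fintype.card_coe]
      have h1 := Finset.card_eq_sum_card_fiberwise
        (s := Finset.univ.filter (fun ω => lab ω ∈ I)) (f := lab) (t := I)
        (fun ω hω => (Finset.mem_filter.mp hω).2)
      rw [h1]
      refine Finset.sum_congr rfl (fun i hi => ?_)
      rw [← hsize i, Nat.card_eq_fintype_card, Fintype.card_subtype]
      congr 1
      ext ω
      simp only [Finset.mem_filter, Finset.mem_univ, true_and]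
      constructor
      · rintro ⟨-, h⟩
        exact h
      · intro h
        exact ⟨by rw [h]; exact hi, h⟩
    -- `B` is the orbit of `M`, in bijection with `M ⧸ N`
    have hrel : N.relIndex M = Nat.card B := by
      have hstab : stabilizer M x0 = N.subgroupOf M := by
        ext m
        simp only [mem_stabilizer_iff, Subgroup.mem_subgroupOf, hN]
        rfl
      have horb : (orbit M x0 : Set Ω) = B := by
        ext ω
        constructor
        · rintro ⟨m, rfl⟩
          exact ⟨m.1, m.2, rfl⟩
        · rintro ⟨m, hm, rfl⟩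
          exact ⟨⟨m, hm⟩, rfl⟩
      have h1 := MulAction.index_stabilizer M x0
      rw [hstab] at h1
      unfold Subgroup.relIndex
      rw [h1, horb]
      rfl
    have hmul : N.relIndex M * M.index = Nat.card Ω := by
      rw [Subgroup.relIndex_mul_index hNM.le, hindex]
    have hdvd : (∑ i ∈ I, s i) ∣ Nat.card Ω := by
      rw [← hcardB, ← hrel, ← hmul]
      exact Dvd.intro _ rfl
    rcases harith I hx0I hdvd with h1 | h2
    · exfalso
      rw [← hcardB, ← hrel] at h1
      have : M ≤ N := Subgroup.relIndex_eq_one.mp h1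
      exact absurd (le_antisymm this hNM.le) (ne_of_gt hNM)
    · rw [← hcardB, ← hrel] at h2
      rw [h2] at hmul
      have hpos : 0 < Nat.card Ω := by omega
      have : M.index = 1 := by
        have := Nat.eq_of_mul_eq_mul_left hpos (hmul.trans (mul_one _).symm)
        exact this
      exact Subgroup.index_eq_one.mp this

/-- the suborbit lengths of `HN` on the cosets of `2.HS.2` -/
def hnSizes : Fin 9 → ℕ :=
  ![1, 1408, 2200, 5775, 35200, 123200, 277200, 354816, 739200]

theorem hnSizes_sum : ∑ i, hnSizes i = 1539000 := by decide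

set_option maxRecDepth 100000 in
theorem hnSizes_arith : ∀ I : Finset (Fin 9), (0 : Fin 9) ∈ I → (∑ i ∈ I, hnSizes i) ∣ 1539000 →
    (∑ i ∈ I, hnSizes i) = 1 ∨ (∑ i ∈ I, hnSizes i) = 1539000 := by decide +kernel

end Cfsg.Agent.Lib.Helper21.HNGlue
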