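import Mathlib

set_option autoImplicit false

/-! # Normal subgroups of a group with a quasisimple subgroup of index 2

`P` a group, `K` a subgroup of index 2 which is perfect with `K / Z(K)` simple and `C_P(K) ≤ K`:
every normal subgroup of `P` lies in `K` or is everything; the normal subgroups inside `K` lie in
`Z(K)` or contain `K`. -/

namespace Cfsg.Agent.Lib.Helper21.HNGlue

open scoped commutatorElement

variable {P : Type*} [Group P]

theorem commutatorElement_mul_central_left {z : P} (hz : ∀ g : P, g * z = z * g) (g h : P) :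
    ⁅g * z, h⁆ = ⁅g, h⁆ := by
  rw [commutatorElement_def, commutatorElement_def, mul_inv_rev]
  calc g * z * h * (z⁻¹ * g⁻¹) * h⁻¹ = g * (z * h) * z⁻¹ * g⁻¹ * h⁻¹ := by group
    _ = g * (h * z) * z⁻¹ * g⁻¹ * h⁻¹ := by rw [hz h]
    _ = g * h * g⁻¹ * h⁻¹ := by group

theorem commutatorElement_mul_central_right {z : P} (hz : ∀ g : P, g * z = z * g) (g h : P) :
    ⁅g, h * z⁆ = ⁅g, h⁆ := by
  rw [commutatorElement_def, commutatorElement_def, mul_inv_rev]
  calc g * (h * z) * g⁻¹ * (z⁻¹ * h⁻¹) = g * h * (z * g⁻¹) * z⁻¹ * h⁻¹ := by group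
    _ = g * h * (g⁻¹ * z) * z⁻¹ * h⁻¹ := by rw [hz g⁻¹]
    _ = g * h * g⁻¹ * h⁻¹ := by group

/-- a subgroup strictly containing a subgroup of index 2 is everything -/
theorem eq_top_of_index_two_lt {K A : Subgroup P} (hK2 : K.index = 2) (hKA : K ≤ A) (hne : ¬ A ≤ K) :
    A = ⊤ := by
  have h := Subgroup.relIndex_mul_index hKA
  rw [hK2] at h
  have h1 : K.relIndex A ≠ 1 := fun h1 => hne (Subgroup.relIndex_eq_one.mp h1)
  have h2 : K.relIndex A ∣ 2 := Dvd.intro _ h
  have h3 : K.relIndex A = 2 := by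
    rcases (Nat.dvd_prime Nat.prime_two).mp h2 with h | h
    · exact absurd h h1
    · exact h
  rw [h3] at h
  have : A.index = 1 := by omega
  exact Subgroup.index_eq_one.mp this

/-- dichotomy for normal subgroups inside `K` -/
theorem le_center_or_le_of_normal_le (K : Subgroup P) [hKn : K.Normal]
    (hperfK : commutator ↥K = ⊤) (hsimpK : IsSimpleGroup (↥K ⧸ Subgroup.center ↥K))
    (B : Subgroup P) [hBn : B.Normal] :
    B ⊓ K ≤ Subgroup.centralizer (K : Set P) ∨ K ≤ B := by
  set Z : Subgroup ↥K := Subgroup.center ↥K with hZ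
  set B' : Subgroup ↥K := B.subgroupOf K with hB'
  haveI hB'n : B'.Normal := Subgroup.normal_subgroupOf
  set f : ↥K →* ↥K ⧸ Z := QuotientGroup.mk' Z with hf
  have hfs : Function.Surjective f := QuotientGroup.mk'_surjective Z
  haveI : (B'.map f).Normal := Subgroup.Normal.map hB'n f hfs
  rcases hsimpK.eq_bot_or_eq_top_of_normal (B'.map f) inferInstance with h | h
  · left
    have hle : B' ≤ Z := by
      have := (Subgroup.map_eq_bot_iff B').mp h
      rwa [hf, QuotientGroup.ker_mk'] at this
    intro g hg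
    rw [Subgroup.mem_centralizer_iff]
    intro k hk
    have hgB' : (⟨g, hg.2⟩ : ↥K) ∈ B' := Subgroup.mem_subgroupOf.mpr hg.1
    have hc := Subgroup.mem_center_iff.mp (hle hgB') ⟨k, hk⟩
    exact congrArg Subtype.val hc
  · right
    -- `B' ⊔ Z = ⊤`
    have hsup : B' ⊔ Z = ⊤ := by
      have := Subgroup.comap_map_eq f B'
      rw [h, Subgroup.comap_top, hf, QuotientGroup.ker_mk'] at this
      exact this.symm
    -- commutators of `B' ⊔ Z` lie in `B'`
    have hcomm : commutator ↥K ≤ B' := by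
      rw [commutator_def, Subgroup.commutator_le]
      intro g₁ _ g₂ _
      have h1 : g₁ ∈ B' ⊔ Z := by rw [hsup]; trivial
      have h2 : g₂ ∈ B' ⊔ Z := by rw [hsup]; trivial
      rw [Subgroup.mem_sup_of_normal_left] at h1 h2
      obtain ⟨b₁, hb₁, z₁, hz₁, rfl⟩ := h1
      obtain ⟨b₂, hb₂, z₂, hz₂, rfl⟩ := h2
      have c1 := Subgroup.mem_center_iff.mp hz₁
      have c2 := Subgroup.mem_center_iff.mp hz₂
      rw [commutatorElement_mul_central_left c1, commutatorElement_mul_central_right c2,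
        commutatorElement_def]
      exact B'.mul_mem (B'.mul_mem (B'.mul_mem hb₁ hb₂) (B'.inv_mem hb₁)) (B'.inv_mem hb₂)
    rw [hperfK] at hcomm
    intro k hk
    have : (⟨k, hk⟩ : ↥K) ∈ B' := hcomm trivial
    exact Subgroup.mem_subgroupOf.mp this

/-- every normal subgroup lies in `K` or is everything -/
theorem normal_le_or_eq_top (K : Subgroup P) (hK2 : K.index = 2)
    (hperfK : commutator ↥K = ⊤) (hsimpK : IsSimpleGroup (↥K ⧸ Subgroup.center ↥K))
    (hC : Subgroup.centralizer (K : Set P) ≤ K)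
    (A : Subgroup P) [hAn : A.Normal] : A ≤ K ∨ A = ⊤ := by
  haveI hKn : K.Normal := Subgroup.normal_of_index_eq_two hK2
  by_cases hAK : A ≤ K
  · exact Or.inl hAK
  right
  rcases le_center_or_le_of_normal_le K hperfK hsimpK A with h | h
  · -- `A ⊓ K` centralises `K`: then `A` centralises `K`
    exfalso
    -- `⁅K, K⁆ = K` as subgroups of `P`
    have hKK : ⁅K, K⁆ = K := by
      have h1 := Subgroup.map_commutator (⊤ : Subgroup ↥K) ⊤ K.subtype
      rw [← commutator_def, hperfK, ← MonoidHom.range_eq_map, Subgroup.range_subtype] at h1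
      exact h1.symm
    have hAKc : ⁅A, K⁆ ≤ Subgroup.centralizer (K : Set P) :=
      le_trans (Subgroup.commutator_le_inf A K) h
    have h1 : ⁅⁅A, K⁆, K⁆ = ⊥ := Subgroup.commutator_eq_bot_iff_le_centralizer.mpr hAKc
    have h2 : ⁅⁅K, A⁆, K⁆ = ⊥ := by rw [Subgroup.commutator_comm K A]; exact h1
    have h3 : ⁅⁅K, K⁆, A⁆ = ⊥ := Subgroup.commutator_commutator_eq_bot_of_rotate h2 h1
    rw [hKK, Subgroup.commutator_comm] at h3
    have h4 : A ≤ Subgroup.centralizer (K : Set P) :=
      Subgroup.commutator_eq_bot_iff_le_centralizer.mp h3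
    exact hAK (le_trans h4 hC)
  · exact eq_top_of_index_two_lt hK2 h hAK

/-- the centraliser of an index 2 subgroup lies in it, when the group maps onto a group with
trivial centre and the kernel lies in the subgroup -/
theorem centralizer_le_of_hom {Γ : Type*} [Group Γ] (K : Subgroup P) (hK2 : K.index = 2)
    (ρ : P →* Γ) (hρ : Function.Surjective ρ) (hZ : Subgroup.center Γ = ⊥) (hker : ρ.ker ≤ K) :
    Subgroup.centralizer (K : Set P) ≤ K := by
  intro a ha
  by_contra haK
  -- `a` is central in `P`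
  have hcen : ∀ p : P, p * a = a * p := by
    intro p
    by_cases hp : p ∈ K
    · exact (Subgroup.mem_centralizer_iff.mp ha p hp)
    · -- `a⁻¹ * p ∈ K`
      have hk : a⁻¹ * p ∈ K := by
        rw [Subgroup.mul_mem_iff_of_index_two hK2, inv_mem_iff]
        exact ⟨fun h => absurd h haK, fun h => absurd h hp⟩
      have hc := Subgroup.mem_centralizer_iff.mp ha _ hk
      -- p = a * (a⁻¹ * p)
      calc p * a = a * (a⁻¹ * p) * a := by group
        _ = a * ((a⁻¹ * p) * a) := by group
        _ = a * (a * (a⁻¹ * p)) := by rw [hc]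
        _ = a * p := by group
  have hρa : ρ a ∈ Subgroup.center Γ := by
    rw [Subgroup.mem_center_iff]
    intro g
    obtain ⟨p, rfl⟩ := hρ g
    rw [← map_mul, ← map_mul, hcen p]
  rw [hZ, Subgroup.mem_bot] at hρa
  exact haK (hker (MonoidHom.mem_ker.mpr hρa))

end Cfsg.Agent.Lib.Helper21.HNGlue
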